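import Cfsg.Agent.Lib.SmallDihedral.Count
import Cfsg.Agent.Lib.Char.Induction
import Cfsg.Agent.Lib.Char.Generalized
import Cfsg.Agent.Lib.Char.Linear
import Cfsg.Agent.Lib.Char.ClassSum
import Cfsg.Agent.Lib.CharInt.Basic

/-!
# A simple group has no configuration with `q ≥ 27`

Exceptional characters for the TI subgroup `C`, the involution structure constants, and the degree
bound `d² - 2qd + 4q ≥ 0` for irreducible characters.
-/

set_option autoImplicit false
set_option linter.unusedSectionVars false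

namespace Cfsg.Agent.SmallDihedral

open Subgroup
open scoped ComplexConjugate

variable {G : Type*} [Group G] [Fintype G] {C N : Subgroup G} {t u : G} {q : ℕ}

/-- The inverse of a linear character of an abelian subgroup. -/
def invHom (hC : ∀ a ∈ C, ∀ b ∈ C, a * b = b * a) (l : C →* ℂ) : C →* ℂ where
  toFun c := l c⁻¹
  map_one' := by rw [inv_one, map_one]
  map_mul' a b := by
    rw [mul_inv_rev, map_mul, mul_comm]

/-- The exceptional virtual character attached to a linear character of `C`. -/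
noncomputable def theta (l : C →* ℂ) : G → ℂ :=
  Cfsg.indFun C (fun c => 1 - l c)

namespace Config

variable (h : Config C N t u q)
include h

theorem indFun_apply (f : C → ℂ) {c : G} (hc : c ∈ C) (hc1 : c ≠ 1) :
    Cfsg.indFun C f c = f ⟨c, hc⟩ + f ⟨c⁻¹, inv_mem hc⟩ := by
  classical
  have hval : ∀ x : G, Cfsg.extendByZero C f (x⁻¹ * c * x) =
      (if x ∈ C then f ⟨c, hc⟩ else 0) + (if x ∈ N ∧ x ∉ C then f ⟨c⁻¹, inv_mem hc⟩ else 0) := by
    intro x
    by_cases hxC : x ∈ C
    · rw [if_pos hxC, if_neg (fun e => e.2 hxC), add_zero]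
      have e : x⁻¹ * c * x = c := by rw [mul_assoc, h.comm c hc x hxC, inv_mul_cancel_left]
      rw [e, Char.extendByZero_of_mem C f hc]
    · by_cases hxN : x ∈ N
      · rw [if_neg hxC, if_pos ⟨hxN, hxC⟩, zero_add]
        have e : x⁻¹ * c * x = c⁻¹ := by
          have := h.conj_eq_inv (inv_mem hxN) (fun e => hxC (inv_mem_iff.1 e)) hc
          rwa [inv_inv] at this
        rw [e, Char.extendByZero_of_mem C f (inv_mem hc)]
      · rw [if_neg hxC, if_neg (fun e => hxN e.1), add_zero]
        refine Char.extendByZero_of_notMem C f fun e => hxN ?_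
        have := h.ti x⁻¹ c hc hc1 (by rwa [inv_inv])
        exact inv_mem_iff.1 this
  have hA : Nat.card {x : G // x ∈ C} = 2 * q := h.cardC
  have hB : Nat.card {x : G // x ∈ N ∧ x ∉ C} = 2 * q := by
    have h2 : Nat.card {x : G // x ∈ N} = 4 * q := h.cardN
    rw [Nat.card_eq_fintype_card, Fintype.card_subtype] at hA h2 ⊢
    have hs : (Finset.univ.filter fun x : G => x ∈ N ∧ x ∉ C) =
        (Finset.univ.filter fun x : G => x ∈ N) \ (Finset.univ.filter fun x : G => x ∈ C) := by
      ext x; simp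
    rw [hs, Finset.card_sdiff_of_subset (fun x hx => by
      simp only [Finset.mem_filter, Finset.mem_univ, true_and] at hx ⊢; exact h.le hx)]
    omega
  rw [Nat.card_eq_fintype_card, Fintype.card_subtype] at hA hB
  unfold Cfsg.indFun
  simp only [hval]
  rw [Finset.sum_add_distrib, ← Finset.sum_filter, ← Finset.sum_filter, Finset.sum_const,
    Finset.sum_const, hA, hB, h.cardC, nsmul_eq_mul, nsmul_eq_mul, mul_add]
  have hq : ((2 * q : ℕ) : ℂ) ≠ 0 := Nat.cast_ne_zero.2 (by have := h.odd_q.pos; omega)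
  rw [inv_mul_cancel_left₀ hq, inv_mul_cancel_left₀ hq]

theorem theta_one (l : C →* ℂ) : theta (G := G) l 1 = 0 := by
  rw [theta, Char.indFun_apply_one, map_one, sub_self, mul_zero]

theorem theta_apply (l : C →* ℂ) (c : C) :
    theta (G := G) l c = 2 - l c - l c⁻¹ := by
  by_cases hc : (c : G) = 1
  · obtain rfl : c = 1 := Subtype.ext hc
    rw [OneMemClass.coe_one, h.theta_one, inv_one, map_one]; norm_num
  · rw [theta, h.indFun_apply _ c.2 hc]
    have e : (⟨(c : G)⁻¹, inv_mem c.2⟩ : C) = c⁻¹ := rfl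
    rw [e]
    ring

theorem theta_eq_zero (l : C →* ℂ) {g : G}
    (hg : ¬ ∃ a : G, ∃ c ∈ C, c ≠ 1 ∧ a * c * a⁻¹ = g) : theta (G := G) l g = 0 := by
  by_cases h1 : g = 1
  · rw [h1, h.theta_one]
  · refine Char.indFun_eq_zero_of_forall_notMem C _ fun x hx => hg ⟨x, _, hx, fun e => h1 ?_, by group⟩
    have := congrArg (fun y => x * y * x⁻¹) e
    simpa [mul_assoc] using this

theorem isGeneralized_theta (l : C →* ℂ) : Cfsg.IsGeneralizedCharacter G (theta (G := G) l) :=
  Char.isGeneralizedCharacter_indFun C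
    ⟨_, _, Char.isCharacter_one,
      Char.IsIrrCharacter.isCharacter (Char.isIrrCharacter_of_monoidHom l), rfl⟩

theorem classInner_theta (l m : C →* ℂ) [DecidableEq (C →* ℂ)] (hl : l ≠ 1) (hm : m ≠ 1) :
    Cfsg.classInner (theta (G := G) l) (theta (G := G) m) =
      2 + (if l = m then 1 else 0) + (if l = invHom h.comm m then 1 else 0) := by
  classical
  haveI := Fintype.ofFinite C
  have hm' : invHom h.comm m ≠ 1 := fun e => hm (MonoidHom.ext fun c => by
    have := DFunLike.congr_fun e c⁻¹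
    simpa [invHom] using this)
  unfold theta
  rw [Char.classInner_indFun C _ (Char.isClassFunction_indFun C _)]
  have e1 : (fun c : C => 1 - l c) = (Char.linIrr (1 : C →* ℂ)).1 - (Char.linIrr l).1 := by
    funext c; simp
  have e2 : (fun c : C => Cfsg.indFun C (fun c => 1 - m c) (c : G)) =
      (2 : ℂ) • (Char.linIrr (1 : C →* ℂ)).1 - (Char.linIrr m).1 -
        (Char.linIrr (invHom h.comm m)).1 := by
    funext c
    have := h.theta_apply m c
    unfold theta at this
    rw [this]
    simp [invHom]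
  rw [e1, e2]
  simp only [Char.classInner_sub_left, Char.classInner_sub_right, Char.classInner_smul_right,
    Char.classInner_irr, Char.linIrr_injective.eq_iff, map_ofNat]
  rw [if_neg (Ne.symm hm), if_neg (Ne.symm hm'), if_neg hl]
  simp only [if_true]
  ring

theorem classInner_theta_trivial (l : C →* ℂ) (hl : l ≠ 1) :
    Cfsg.classInner (theta (G := G) l) (Char.trivialChar G).1 = 1 := by
  classical
  haveI := Fintype.ofFinite C
  unfold theta
  rw [Char.classInner_indFun C _ (Char.IsCharacter.isClassFunction (Char.irr_isCharacter _))]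
  have e1 : (fun c : C => 1 - l c) = (Char.linIrr (1 : C →* ℂ)).1 - (Char.linIrr l).1 := by
    funext c; simp
  have e2 : (fun c : C => (Char.trivialChar G).1 (c : G)) = (Char.linIrr (1 : C →* ℂ)).1 := by
    funext c; simp
  rw [e1, e2, Char.classInner_sub_left, Char.classInner_irr, Char.classInner_irr,
    if_pos rfl, if_neg (fun e => hl (Char.linIrr_injective e)), sub_zero]

/-- The class function identity between structure constants and `theta`. -/
theorem sum_coeff_eq (l : C →* ℂ) (m : Cfsg.IrrCharacter G → ℤ)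
    (hm : ∀ χ, Cfsg.classInner (theta (G := G) l) χ.1 = m χ)
    (hm1 : m (Char.trivialChar G) = 1) :
    (N.index : ℂ) * ∑ χ : Cfsg.IrrCharacter G, (m χ : ℂ) * (χ.1 t * χ.1 t) / χ.1 1 =
      8 * (q : ℂ) ^ 2 := by
  classical
  have hG : (Nat.card G : ℂ) = (N.index : ℂ) * (4 * q) := by
    rw [← N.card_mul_index, h.cardN]; push_cast; ring
  have hpair : ∀ g : G, (Nat.card {p : G × G // p.1 * t * p.1⁻¹ * (p.2 * t * p.2⁻¹) = g} : ℂ) =
      16 * (q : ℂ) ^ 2 * Nat.card (InvPairs g) := by
    intro g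
    let F : G → Type _ := fun x => {a : G // a * t * a⁻¹ = x}
    have hord : ∀ a : G, orderOf (a * t * a⁻¹) = 2 := fun a => by
      rw [← MulAut.conj_apply]; exact (MulEquiv.orderOf_eq _ t).trans h.t_ord
    have hF : ∀ x : G, orderOf x = 2 → Nat.card (F x) = 4 * q := by
      intro x hx
      obtain ⟨a₀, ha₀⟩ := isConj_iff.1 (h.inv_conj x hx)
      rw [← h.cardN, ← h.cent_t]
      refine Nat.card_congr
        { toFun := fun a => ⟨a₀⁻¹ * a.1, ?_⟩
          invFun := fun z => ⟨a₀ * z.1, ?_⟩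
          left_inv := fun a => Subtype.ext (mul_inv_cancel_left _ _)
          right_inv := fun z => Subtype.ext (inv_mul_cancel_left _ _) }
      · rw [mem_centralizer_singleton_iff]
        have ha : a.1 * t * (a.1)⁻¹ = a₀ * t * a₀⁻¹ := a.2.trans ha₀.symm
        calc a₀⁻¹ * a.1 * t = a₀⁻¹ * (a.1 * t * (a.1)⁻¹) * a.1 := by group
          _ = t * (a₀⁻¹ * a.1) := by rw [ha]; group
      · have hz := mem_centralizer_singleton_iff.1 z.2
        show a₀ * z.1 * t * (a₀ * z.1)⁻¹ = x
        rw [← ha₀, mul_inv_rev, mul_assoc a₀ z.1 t, hz]; group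
    have e : {p : G × G // p.1 * t * p.1⁻¹ * (p.2 * t * p.2⁻¹) = g} ≃
        Σ x : InvPairs g, F x.1 × F (x.1⁻¹ * g) :=
      { toFun := fun p => ⟨⟨p.1.1 * t * p.1.1⁻¹, hord _, by
            rw [inv_mul_eq_iff_eq_mul.2 p.2.symm]; exact hord _⟩,
          ⟨p.1.1, rfl⟩, ⟨p.1.2, (inv_mul_eq_iff_eq_mul.2 p.2.symm).symm⟩⟩
        invFun := fun z => ⟨(z.2.1.1, z.2.2.1), by
          show z.2.1.1 * t * z.2.1.1⁻¹ * (z.2.2.1 * t * z.2.2.1⁻¹) = g
          rw [z.2.1.2, z.2.2.2, mul_inv_cancel_left]⟩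
        left_inv := fun p => rfl
        right_inv := fun z => by
          obtain ⟨⟨x, hx⟩, ⟨a, ha⟩, ⟨b, hb⟩⟩ := z
          simp only at ha hb
          subst ha
          rfl }
    haveI : Fintype (InvPairs g) := Fintype.ofFinite _
    rw [Nat.card_congr e, Nat.card_sigma, Finset.sum_congr rfl fun x _ => by
      rw [Nat.card_prod, hF x.1 x.2.1, hF _ x.2.2], Finset.sum_const, Finset.card_univ,
      ← Nat.card_eq_fintype_card, smul_eq_mul]
    push_cast
    ring
  have key : ∀ g : G, theta (G := G) l g *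
      ((Nat.card G : ℂ) * ∑ χ : Cfsg.IrrCharacter G, χ.1 t * χ.1 t * χ.1 g⁻¹ / χ.1 1) =
      32 * (q : ℂ) ^ 3 * theta (G := G) l g := by
    intro g
    by_cases hg : ∃ a : G, ∃ c ∈ C, c ≠ 1 ∧ a * c * a⁻¹ = g
    · obtain ⟨a, c, hc, hc1, rfl⟩ := hg
      rw [← Char.card_conj_mul_conj_eq, hpair, h.card_invPairs_conj a, h.card_invPairs_mem hc hc1]
      push_cast; ring
    · rw [h.theta_eq_zero l hg, zero_mul, mul_zero]
  have hs := Finset.sum_congr (rfl : (Finset.univ : Finset G) = Finset.univ) fun g _ => key g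
  have hfour : ∀ χ : Cfsg.IrrCharacter G,
      ∑ g : G, theta (G := G) l g * χ.1 g⁻¹ = (Nat.card G : ℂ) * m χ := by
    intro χ
    rw [← hm χ, Cfsg.classInner, ← mul_assoc, mul_inv_cancel₀ Char.card_ne_zero, one_mul]
    exact Finset.sum_congr rfl fun g _ => by
      rw [Char.IsCharacter.conj_apply (Char.irr_isCharacter χ)]
  have hth : ∑ g : G, theta (G := G) l g = (Nat.card G : ℂ) := by
    have := hfour (Char.trivialChar G)
    simpa [hm1] using this
  simp only [Finset.mul_sum] at hs
  rw [Finset.sum_comm, ← Finset.mul_sum, hth] at hs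
  have hs' : ∑ χ : Cfsg.IrrCharacter G, (Nat.card G : ℂ) * (χ.1 t * χ.1 t) / χ.1 1 *
      ((Nat.card G : ℂ) * m χ) = 32 * (q : ℂ) ^ 3 * Nat.card G := by
    rw [← hs]
    refine Finset.sum_congr rfl fun χ _ => ?_
    rw [← hfour χ, Finset.mul_sum]
    exact Finset.sum_congr rfl fun g _ => by ring
  have hq0 : (q : ℂ) ≠ 0 := Nat.cast_ne_zero.2 h.odd_q.pos.ne'
  have h4q : (4 : ℂ) * q ≠ 0 := mul_ne_zero (by norm_num) hq0
  have hS : (Nat.card G : ℂ) * ∑ χ : Cfsg.IrrCharacter G, (m χ : ℂ) * (χ.1 t * χ.1 t) / χ.1 1 =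
      32 * (q : ℂ) ^ 3 := by
    apply mul_right_cancel₀ (Char.card_ne_zero (G := G))
    rw [← hs', Finset.mul_sum, Finset.sum_mul]
    exact Finset.sum_congr rfl fun χ _ => by ring
  apply mul_left_cancel₀ h4q
  rw [← mul_assoc, mul_comm ((4 : ℂ) * q) (N.index : ℂ), ← hG, hS]
  ring

variable [IsSimpleGroup G]

theorem three_le_degree {χ : Cfsg.IrrCharacter G} (hχ : χ ≠ Char.trivialChar G) :
    3 ≤ Char.degree χ := by
  classical
  set d := Char.degree χ with hd
  have htu : Commute t u := by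
    have := h.cent_t ▸ h.u_mem
    exact (mem_centralizer_singleton_iff.1 this).symm
  set K := Subgroup.closure ({t, u} : Set G) with hK
  haveI : Fintype K := Fintype.ofFinite K
  have hne : t ≠ u := fun e => h.u_notMem (e ▸ h.t_mem)
  have htu1 : t * u ≠ 1 := fun e => hne (by
    rw [eq_inv_of_mul_eq_one_left e, inv_eq_of_mul_eq_one_right h.u_sq])
  have hmem : ∀ x ∈ K, x = 1 ∨ orderOf x = 2 := by
    intro x hx
    rcases eq_or_ne x 1 with h1 | h1
    · exact Or.inl h1
    refine Or.inr (orderOf_eq_prime ?_ h1)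
    rw [pow_two]
    induction hx using Subgroup.closure_induction with
    | mem y hy => rcases hy with rfl | rfl; exacts [h.t_sq, h.u_sq]
    | one => exact absurd rfl h1
    | mul a b ha hb iha ihb =>
      have hab : Commute a b := by
        have hcomm : IsMulCommutative K := Subgroup.isMulCommutative_closure (by
          rintro y (rfl | rfl) z (rfl | rfl)
          exacts [rfl, htu.eq, htu.symm.eq, rfl])
        exact congrArg Subtype.val (hcomm.is_comm.comm (⟨a, ha⟩ : K) ⟨b, hb⟩)
      have haa : a * a = 1 := by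
        by_cases e : a = 1
        · rw [e, one_mul]
        · exact iha e
      have hbb : b * b = 1 := by
        by_cases e : b = 1
        · rw [e, one_mul]
        · exact ihb e
      rw [hab.symm.mul_mul_mul_comm, haa, hbb, one_mul]
    | inv a _ iha =>
      rw [← mul_inv_rev, iha (fun e => h1 (by rw [e, inv_one])), inv_one]
  have hval : ∀ x : K, χ.1 (x : G) = χ.1 t + (if x = 1 then (d : ℂ) - χ.1 t else 0) := by
    intro x
    split_ifs with hx
    · rw [hx, OneMemClass.coe_one, Char.apply_one_eq_degree, ← hd]; ring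
    · rw [add_zero]
      refine (Char.IsClassFunction.apply_of_isConj (Char.IsCharacter.isClassFunction
        (Char.irr_isCharacter χ)) (h.inv_conj _ ?_)).symm
      exact (hmem _ x.2).resolve_left fun e => hx (Subtype.ext e)
  have hres := Char.IsCharacter.restrict (Char.irr_isCharacter χ) K
  have hKcard : (Nat.card K : ℂ) ≠ 0 := Nat.cast_ne_zero.2 Nat.card_pos.ne'
  have hcalc : ∀ ε : K →* ℂ, Cfsg.classInner (fun x : K => χ.1 (x : G)) (Char.linIrr ε).1 =
      χ.1 t * Cfsg.classInner (Char.linIrr (1 : K →* ℂ)).1 (Char.linIrr ε).1 +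
        (Nat.card K : ℂ)⁻¹ * ((d : ℂ) - χ.1 t) := by
    intro ε
    simp only [Cfsg.classInner, hval, add_mul, Finset.sum_add_distrib, ite_mul, zero_mul,
      Finset.sum_ite_eq', Finset.mem_univ, if_true, Char.linIrr_apply, map_one, mul_one,
      MonoidHom.one_apply, one_mul, ← Finset.mul_sum]
    ring
  have hK4 : Nat.card K = 4 := by
    have h1 : ∀ x : G, x ∈ K ↔ x ∈ ({1, t, u, t * u} : Finset G) := by
      intro x
      simp only [Finset.mem_insert, Finset.mem_singleton]
      constructor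
      · intro hx
        induction hx using Subgroup.closure_induction with
        | mem y hy => rcases hy with rfl | rfl <;> simp
        | one => simp
        | mul a b _ _ iha ihb =>
          have e1 : u * t = t * u := htu.symm.eq
          have e2 : t * (t * u) = u := by rw [← mul_assoc, h.t_sq, one_mul]
          have e3 : t * u * t = u := by rw [mul_assoc, e1, e2]
          have e4 : t * u * u = t := by rw [mul_assoc, h.u_sq, mul_one]
          have e5 : u * (t * u) = t := by rw [← mul_assoc, e1, e4]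
          have e6 : t * u * (t * u) = 1 := by rw [← mul_assoc, e3, h.u_sq]
          rcases iha with rfl | rfl | rfl | rfl <;> rcases ihb with rfl | rfl | rfl | rfl <;>
            simp [h.t_sq, h.u_sq, e1, e2, e3, e4, e5, e6]
        | inv a _ iha =>
          have i1 : t⁻¹ = t := inv_eq_of_mul_eq_one_right h.t_sq
          have i2 : u⁻¹ = u := inv_eq_of_mul_eq_one_right h.u_sq
          rcases iha with rfl | rfl | rfl | rfl
          · simp
          · simp [i1]
          · simp [i2]
          · right; right; right; rw [mul_inv_rev, i1, i2, htu.eq]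
      · rintro (rfl | rfl | rfl | rfl)
        · exact K.one_mem
        · exact Subgroup.subset_closure (Set.mem_insert _ _)
        · exact Subgroup.subset_closure (Set.mem_insert_of_mem _ rfl)
        · exact mul_mem (Subgroup.subset_closure (Set.mem_insert _ _))
            (Subgroup.subset_closure (Set.mem_insert_of_mem _ rfl))
    rw [Nat.card_congr (Equiv.subtypeEquivRight h1), Nat.card_eq_fintype_card, Fintype.card_coe]
    have hu1 : u ≠ 1 := fun e => h.u_notMem (e ▸ C.one_mem)
    rw [Finset.card_insert_of_notMem (by simp [h.t_ne_one.symm, hu1.symm, htu1.symm]),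
      Finset.card_insert_of_notMem (by simp [hne, hu1]),
      Finset.card_insert_of_notMem (by simp [h.t_ne_one]), Finset.card_singleton]
  obtain ⟨ε, hε⟩ : ∃ ε : K →* ℂ, ε ≠ 1 := by
    haveI : IsMulCommutative K := Subgroup.isMulCommutative_closure (by
      rintro y (rfl | rfl) z (rfl | rfl)
      exacts [rfl, htu.eq, htu.symm.eq, rfl])
    have hc : Nat.card (K →* ℂ) = 4 := by
      rw [Char.card_monoidHom_complex, show commutator K = ⊥ by
        rw [commutator_eq_closure, closure_eq_bot_iff]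
        rintro _ ⟨a, b, rfl⟩
        exact Set.mem_singleton_iff.2 (commutatorElement_eq_one_iff_mul_comm.2
          (IsMulCommutative.is_comm.comm a b)), index_bot, hK4]
    haveI : Finite (K →* ℂ) := Nat.finite_of_card_ne_zero (by omega)
    haveI : Nontrivial (K →* ℂ) := Finite.one_lt_card_iff_nontrivial.1 (by omega)
    exact exists_ne 1
  obtain ⟨k, hk⟩ := Char.IsCharacter.exists_nat_classInner hres (Char.irr_isCharacter (Char.linIrr ε))
  obtain ⟨k', hk'⟩ := Char.IsCharacter.exists_nat_classInner hres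
    (Char.irr_isCharacter (Char.linIrr (1 : K →* ℂ)))
  rw [hcalc, Char.classInner_irr, if_neg (fun e => hε (Char.linIrr_injective e).symm), hK4] at hk
  rw [hcalc, Char.classInner_irr, if_pos rfl, hK4] at hk'
  push_cast at hk hk'
  have ha : χ.1 t = ((d : ℤ) - 4 * k : ℤ) := by
    push_cast
    linear_combination -4 * hk
  have hsum : (d : ℤ) + 3 * ((d : ℤ) - 4 * k) = 4 * k' := by
    have e : ((d : ℂ) + 3 * ((d : ℤ) - 4 * k : ℤ) : ℂ) = 4 * (k' : ℂ) := by
      rw [← ha]; linear_combination 4 * hk'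
    exact_mod_cast e
  by_contra hlt
  push Not at hlt
  have hk0 : k = 0 := by omega
  have htker : t ∈ CharInt.charKernel (Char.irr_isCharacter χ) := by
    rw [CharInt.mem_charKernel, ha, hk0, Char.apply_one_eq_degree, ← hd]
    simp
  rcases (CharInt.charKernel_normal (Char.irr_isCharacter χ)).eq_bot_or_eq_top with hb | hb
  · exact h.t_ne_one (mem_bot.1 (hb ▸ htker))
  · have h0 := Char.classInner_irr χ (Char.trivialChar G)
    rw [if_neg hχ] at h0
    have hall : ∀ g, χ.1 g = (d : ℂ) := fun g => by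
      rw [hd, ← Char.apply_one_eq_degree]; exact (hb ▸ mem_top g : g ∈ CharInt.charKernel _)
    simp only [Cfsg.classInner, hall, Char.trivialChar_apply, map_one, mul_one, Finset.sum_const,
      Finset.card_univ, nsmul_eq_mul, ← Nat.card_eq_fintype_card, ← mul_assoc,
      inv_mul_cancel₀ Char.card_ne_zero, one_mul, Nat.cast_eq_zero] at h0
    exact (Char.degree_pos χ).ne' h0

theorem degree_ge (hq : 27 ≤ q) {χ : Cfsg.IrrCharacter G} (hχ : χ ≠ Char.trivialChar G) :
    (2 * q : ℝ) - 3 ≤ Char.degree χ := by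
  classical
  haveI := Fintype.ofFinite C
  set d := Char.degree χ with hd
  have hd3 := h.three_le_degree hχ
  rw [← hd] at hd3
  have hres := Char.IsCharacter.restrict (Char.irr_isCharacter χ) C
  obtain ⟨m, hm, -⟩ := Char.IsCharacter.exists_decomp hres
  have hcomm : ∀ a b : C, a * b = b * a := fun a b => Subtype.ext (h.comm a a.2 b b.2)
  have hdeg : ((∑ ψ, m ψ : ℕ) : ℂ) = (d : ℂ) := by
    have h1 := congrFun hm 1
    simp only [OneMemClass.coe_one, Finset.sum_apply, Pi.smul_apply, smul_eq_mul,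
      Char.apply_one_of_comm hcomm, mul_one] at h1
    rw [Char.apply_one_eq_degree, ← hd] at h1
    rw [h1]; push_cast; rfl
  have hdeg' : ∑ ψ, m ψ = d := by exact_mod_cast hdeg
  have hnorm : Cfsg.classInner (fun x : C => χ.1 (x : G)) (fun x : C => χ.1 (x : G)) =
      ((∑ ψ, (m ψ : ℤ) ^ 2 : ℤ) : ℂ) :=
    Char.IsGeneralizedCharacter.classInner_self_eq_sum (m := fun ψ => (m ψ : ℤ))
      (by rw [hm]; simp)
  rw [Char.classInner_self] at hnorm
  have hnorm' : ((Nat.card C : ℝ))⁻¹ * ∑ x : C, Complex.normSq (χ.1 (x : G)) =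
      ((∑ ψ, (m ψ : ℤ) ^ 2 : ℤ) : ℝ) := by
    apply Complex.ofReal_injective
    rw [hnorm]; push_cast; rfl
  have hsq : (d : ℝ) ≤ ((∑ ψ, (m ψ : ℤ) ^ 2 : ℤ) : ℝ) := by
    have : ((∑ ψ, m ψ : ℕ) : ℤ) ≤ ∑ ψ, (m ψ : ℤ) ^ 2 := by
      push_cast
      exact Finset.sum_le_sum fun ψ _ => by nlinarith [sq_nonneg ((m ψ : ℤ)), (Nat.cast_nonneg (m ψ) : (0:ℤ) ≤ m ψ)]
    rw [hdeg'] at this
    exact_mod_cast this
  have hq0 : (0 : ℝ) < q := by exact_mod_cast h.odd_q.pos
  set Sc := ∑ x : C, Complex.normSq (χ.1 (x : G)) with hSc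
  have hlow : 2 * (q : ℝ) * d ≤ Sc := by
    rw [← hnorm'] at hsq
    rw [h.cardC] at hsq
    push_cast at hsq
    rw [← div_eq_inv_mul, le_div_iff₀ (by positivity)] at hsq
    linarith
  have htot : ∑ g : G, Complex.normSq (χ.1 g) = (Nat.card G : ℝ) := by
    have h1 := Char.classInner_irr_self χ.2
    rw [Char.classInner_self, ← Complex.ofReal_one, Complex.ofReal_inj] at h1
    have hG : (0 : ℝ) < Nat.card G := by exact_mod_cast Nat.card_pos
    field_simp at h1
    linarith
  have hupp : Sc ≤ 4 * q + (d : ℝ) ^ 2 := by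
    haveI : Fintype (G ⧸ N) := Fintype.ofFinite _
    let f : (G ⧸ N) × {c : C // c ≠ 1} → G := fun w => w.1.out * (w.2.1 : G) * w.1.out⁻¹
    have h1 : ∑ w : (G ⧸ N) × {c : C // c ≠ 1}, Complex.normSq (χ.1 (f w)) ≤
        ∑ g ∈ Finset.univ.erase (1 : G), Complex.normSq (χ.1 g) := by
      rw [← Finset.sum_image (f := fun g => Complex.normSq (χ.1 g))
        (fun a _ b _ e => h.param_injective e)]
      refine Finset.sum_le_sum_of_subset_of_nonneg ?_ fun g _ _ => Complex.normSq_nonneg _
      intro g hg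
      obtain ⟨w, -, rfl⟩ := Finset.mem_image.1 hg
      refine Finset.mem_erase.2 ⟨?_, Finset.mem_univ _⟩
      rw [ne_eq, mul_inv_eq_one, mul_eq_left]
      exact fun e => w.2.2 (Subtype.ext e)
    have h2 : ∑ w : (G ⧸ N) × {c : C // c ≠ 1}, Complex.normSq (χ.1 (f w)) =
        (N.index : ℝ) * (Sc - (d : ℝ) ^ 2) := by
      have e : ∀ w : (G ⧸ N) × {c : C // c ≠ 1}, χ.1 (f w) = χ.1 (w.2.1 : G) := fun w =>
        Char.IsCharacter.isClassFunction (Char.irr_isCharacter χ) _ _
      simp only [e]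
      rw [Fintype.sum_prod_type]
      dsimp only
      rw [Finset.sum_const, Finset.card_univ, ← Nat.card_eq_fintype_card,
        ← Subgroup.index_eq_card, nsmul_eq_mul]
      congr 1
      rw [hSc, ← Finset.add_sum_erase _ _ (Finset.mem_univ (1 : C))]
      rw [← Finset.sum_subtype (Finset.univ.erase (1 : C)) (fun x => by simp)
        (fun x : C => Complex.normSq (χ.1 (x : G)))]
      rw [OneMemClass.coe_one, Char.apply_one_eq_degree, ← hd, Complex.normSq_natCast]
      ring
    rw [← Finset.add_sum_erase _ _ (Finset.mem_univ (1 : G)), Char.apply_one_eq_degree, ← hd,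
      Complex.normSq_natCast] at htot
    have hG : (Nat.card G : ℝ) = (N.index : ℝ) * (4 * q) := by
      rw [← N.card_mul_index, h.cardN]; push_cast; ring
    have hn : (0 : ℝ) < N.index := by
      exact_mod_cast Nat.pos_of_ne_zero (index_ne_zero_of_finite (H := N))
    rw [h2] at h1
    nlinarith
  by_contra hlt
  push Not at hlt
  have hd3' : (3 : ℝ) ≤ d := by exact_mod_cast hd3
  have hq' : (27 : ℝ) ≤ q := by exact_mod_cast hq
  nlinarith [mul_nonneg (sub_nonneg.2 hd3') (sub_nonneg.2 hlt.le)]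

/-- The set of characters of `C` that kill `t`, one from each inverse pair. -/
theorem exists_lambdas : ∃ Λ : Finset (C →* ℂ), 2 * Λ.card + 1 = q ∧
    (∀ l ∈ Λ, l ≠ 1 ∧ l ⟨t, h.t_mem⟩ = 1) ∧
    ∀ l ∈ Λ, ∀ m ∈ Λ, l ≠ invHom h.comm m := by
  classical
  set t' : C := ⟨t, h.t_mem⟩
  have hcommC : ∀ a b : C, a * b = b * a := fun a b => Subtype.ext (h.comm a a.2 b b.2)
  let Z : Subgroup C := zpowers t'
  haveI : Z.Normal := ⟨fun n hn g => by rw [hcommC g n, mul_inv_cancel_right]; exact hn⟩
  have hZ : Z.index = q := by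
    have h1 := Z.card_mul_index
    rw [Nat.card_zpowers, ← Subgroup.orderOf_coe, show ((t' : C) : G) = t from rfl, h.t_ord,
      h.cardC] at h1
    omega
  have hbot : ∀ {D : Type _} [Group D], (∀ a b : D, a * b = b * a) → commutator D = ⊥ := by
    intro D _ hD
    rw [commutator_eq_closure, closure_eq_bot_iff]
    rintro _ ⟨a, b, rfl⟩
    exact Set.mem_singleton_iff.2 (commutatorElement_eq_one_iff_mul_comm.2 (hD a b))
  have hq : Nat.card {l : C →* ℂ // l t' = 1} = q := by
    have hQ : ∀ a b : C ⧸ Z, a * b = b * a := by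
      intro a b
      obtain ⟨a, rfl⟩ := QuotientGroup.mk_surjective a
      obtain ⟨b, rfl⟩ := QuotientGroup.mk_surjective b
      rw [← QuotientGroup.mk_mul, hcommC, QuotientGroup.mk_mul]
    have e : {l : C →* ℂ // l t' = 1} ≃ (C ⧸ Z →* ℂ) :=
      { toFun := fun l => QuotientGroup.lift Z l.1 (zpowers_le.2 l.2)
        invFun := fun f => ⟨f.comp (QuotientGroup.mk' Z), by
          show f (QuotientGroup.mk' Z t') = 1
          rw [show QuotientGroup.mk' Z t' = 1 from (QuotientGroup.eq_one_iff _).2 (mem_zpowers _),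
            map_one]⟩
        left_inv := fun l => Subtype.ext (MonoidHom.ext fun c => rfl)
        right_inv := fun f => MonoidHom.ext fun x => by
          obtain ⟨c, rfl⟩ := QuotientGroup.mk_surjective x
          rfl }
    rw [Nat.card_congr e, Char.card_monoidHom_complex, hbot hQ, index_bot, ← Subgroup.index_eq_card, hZ]
  haveI : Finite (C →* ℂ) := by
    refine Nat.finite_of_card_ne_zero ?_
    rw [Char.card_monoidHom_complex]
    exact index_ne_zero_of_finite
  haveI := Fintype.ofFinite (C →* ℂ)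
  set A := (Finset.univ : Finset (C →* ℂ)).filter fun l => l t' = 1 ∧ l ≠ 1 with hA
  have hAcard : A.card + 1 = q := by
    rw [Nat.card_eq_fintype_card, Fintype.card_subtype] at hq
    rw [← hq, ← Finset.card_insert_of_notMem (a := (1 : C →* ℂ)) (s := A) (by simp [hA])]
    congr 1
    ext l
    by_cases hl : l = 1 <;> simp [hA, hl]
  let ι := invHom h.comm
  have hinv : ∀ l : C →* ℂ, ι (ι l) = l := fun l => MonoidHom.ext fun c => by
    show l c⁻¹⁻¹ = l c
    rw [inv_inv]
  have hself : ∀ l ∈ A, ι l ≠ l := by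
    intro l hl e
    simp only [hA, Finset.mem_filter, Finset.mem_univ, true_and] at hl
    refine hl.2 (MonoidHom.ext fun c => ?_)
    have hsq : ∀ x : C, l (x * x) = 1 := fun x => by
      have h1 := DFunLike.congr_fun e x
      change l x⁻¹ = l x at h1
      rw [map_mul]
      nth_rw 2 [← h1]
      rw [← map_mul, mul_inv_cancel, map_one]
    obtain ⟨j, hj⟩ := h.odd_q
    have hcq : l (c ^ q) = 1 := by
      have h2 : ((c ^ q : C) : G) * ((c ^ q : C) : G) = 1 := by
        have : (c ^ q) * (c ^ q) = (1 : C) := by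
          rw [← pow_add, ← two_mul, ← h.cardC, pow_card_eq_one']
        exact congrArg Subtype.val this
      by_cases h3 : ((c ^ q : C) : G) = 1
      · rw [show c ^ q = (1 : C) from Subtype.ext h3, map_one]
      · rw [show c ^ q = t' from Subtype.ext (h.eq_t (c ^ q).2 h2 h3)]; exact hl.1
    have h4 : l (c ^ q) * l c = 1 := by
      rw [← map_mul, ← pow_succ, hj, show 2 * j + 1 + 1 = (j + 1) + (j + 1) by ring, pow_add]
      exact hsq _
    rw [hcq, one_mul] at h4
    exact h4
  have hmemι : ∀ l ∈ A, ι l ∈ A := by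
    intro l hl
    simp only [hA, Finset.mem_filter, Finset.mem_univ, true_and] at hl ⊢
    refine ⟨?_, fun e => hl.2 ?_⟩
    · show l t'⁻¹ = 1
      rw [show t'⁻¹ = t' from Subtype.ext (inv_eq_of_mul_eq_one_right h.t_sq)]
      exact hl.1
    · rw [← hinv l, e]
      exact MonoidHom.ext fun c => rfl
  let e := Fintype.equivFin (C →* ℂ)
  refine ⟨A.filter fun l => e l < e (ι l), ?_, fun l hl => ?_, fun l hl m hm he => ?_⟩
  · rw [two_mul]
    nth_rw 2 [show (A.filter fun l => e l < e (ι l)).card = (A.filter fun l => ¬ e l < e (ι l)).card from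
      Finset.card_nbij' ι ι
        (fun l hl => by
          simp only [Finset.coe_filter, Set.mem_ofPred_eq] at hl ⊢
          exact ⟨hmemι l hl.1, by rw [hinv]; exact not_lt.2 hl.2.le⟩)
        (fun l hl => by
          simp only [Finset.coe_filter, Set.mem_ofPred_eq] at hl ⊢
          refine ⟨hmemι l hl.1, ?_⟩
          rw [hinv]
          exact lt_of_le_of_ne (not_lt.1 hl.2) fun x => hself l hl.1 (e.injective x))
        (fun l _ => hinv l) (fun l _ => hinv l)]
    rw [Finset.card_filter_add_card_filter_not, hAcard]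
  · simp only [hA, Finset.mem_filter, Finset.mem_univ, true_and] at hl
    exact ⟨hl.1.2, hl.1.1⟩
  · simp only [Finset.mem_filter] at hl hm
    have : ι l = m := by rw [he]; exact hinv m
    rw [this] at hl
    rw [show ι m = l from he.symm] at hm
    exact absurd hl.2 (not_lt.2 hm.2.le)

/-- There is no configuration with `q ≥ 27` in a simple group. -/
theorem false_of_large (hq : 27 ≤ q) : False := by
  classical
  obtain ⟨Λ, hΛcard, hΛ, hΛinv⟩ := h.exists_lambdas
  choose m hmdec hm using fun l : C →* ℂ =>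
    Char.IsGeneralizedCharacter.exists_decomp (h.isGeneralized_theta l)
  set one := Char.trivialChar G with hone
  have hm1 : ∀ l ∈ Λ, m l one = 1 := fun l hl => by
    have := hm l one
    rw [hone, h.classInner_theta_trivial l (hΛ l hl).1] at this
    exact_mod_cast this.symm
  have hinner : ∀ l ∈ Λ, ∀ l' ∈ Λ,
      ∑ χ : Cfsg.IrrCharacter G, m l χ * m l' χ = 2 + (if l = l' then 1 else 0) := by
    intro l hl l' hl'
    have h1 : Cfsg.classInner (theta (G := G) l) (theta (G := G) l') =
        ((∑ χ : Cfsg.IrrCharacter G, m l χ * m l' χ : ℤ) : ℂ) := by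
      conv_lhs => arg 1; rw [hmdec l]
      push_cast
      rw [Char.classInner_sum_left]
      refine Finset.sum_congr rfl fun χ _ => ?_
      rw [Char.classInner_smul_left, ← Char.conj_classInner, hm l' χ, map_intCast]
    rw [h.classInner_theta l l' (hΛ l hl).1 (hΛ l' hl').1, if_neg (hΛinv l hl l' hl'), add_zero] at h1
    split_ifs at h1 ⊢ with e <;> exact_mod_cast h1.symm
  let S : (C →* ℂ) → Finset (Cfsg.IrrCharacter G) := fun l =>
    (Finset.univ.erase one).filter fun χ => m l χ ≠ 0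
  have hsplit : ∀ l ∈ Λ, ∀ l' ∈ Λ,
      ∑ χ ∈ S l, m l χ * m l' χ = 1 + (if l = l' then 1 else 0) := by
    intro l hl l' hl'
    have := hinner l hl l' hl'
    rw [← Finset.add_sum_erase _ _ (Finset.mem_univ one), hm1 l hl, hm1 l' hl', one_mul] at this
    have e : ∑ χ ∈ S l, m l χ * m l' χ = ∑ χ ∈ Finset.univ.erase one, m l χ * m l' χ :=
      Finset.sum_filter_of_ne fun χ _ hne hz => hne (by rw [hz, zero_mul])
    rw [e]
    linarith
  have habs : ∀ l ∈ Λ, ∀ χ ∈ S l, m l χ = 1 ∨ m l χ = -1 := by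
    intro l hl χ hχ
    have h1 := hsplit l hl l hl
    rw [if_pos rfl] at h1
    have h2 : m l χ * m l χ ≤ 2 := by
      rw [show (2 : ℤ) = 1 + 1 by norm_num, ← h1]
      exact Finset.single_le_sum (f := fun χ => m l χ * m l χ) (fun x _ => mul_self_nonneg _) hχ
    have h3 : m l χ ≠ 0 := (Finset.mem_filter.1 hχ).2
    have h4 : -1 ≤ m l χ := by nlinarith
    have h5 : m l χ ≤ 1 := by nlinarith
    omega
  have hcard : ∀ l ∈ Λ, (S l).card = 2 := by
    intro l hl
    have h1 := hsplit l hl l hl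
    rw [if_pos rfl, Finset.sum_congr rfl fun χ hχ => by
      rcases habs l hl χ hχ with e | e <;> rw [e] <;> norm_num] at h1
    simp only [Finset.sum_const, nsmul_eq_mul, mul_one] at h1
    exact_mod_cast h1
  have hΛne : Λ.Nonempty := Finset.card_pos.1 (by omega)
  obtain ⟨l0, hl0⟩ := hΛne
  obtain ⟨A, B, hAB, hSl0⟩ := Finset.card_eq_two.1 (hcard l0 hl0)
  have hone_l : ∀ l ∈ Λ, (m l0 A * m l A + m l0 B * m l B = 1 + if l0 = l then 1 else 0) := by
    intro l hl
    have := hsplit l0 hl0 l hl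
    rwa [hSl0, Finset.sum_pair hAB] at this
  have hA0 := habs l0 hl0 A (by rw [hSl0]; simp)
  have hB0 := habs l0 hl0 B (by rw [hSl0]; simp)
  have hAone : A ≠ one := (Finset.mem_erase.1 (Finset.mem_filter.1 (show A ∈ S l0 by rw [hSl0]; simp)).1).1
  have hBone : B ≠ one := (Finset.mem_erase.1 (Finset.mem_filter.1 (show B ∈ S l0 by rw [hSl0]; simp)).1).1
  have hcoef : ∀ l ∈ Λ, ∀ X, X ≠ one → m l X = 0 ∨ m l X = 1 ∨ m l X = -1 := by
    intro l hl X hX
    by_cases hz : m l X = 0
    · exact Or.inl hz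
    · exact Or.inr (habs l hl X (Finset.mem_filter.2 ⟨Finset.mem_erase.2 ⟨hX, Finset.mem_univ _⟩, hz⟩))
  -- the pigeonhole
  have hcover : ∀ l ∈ Λ, m l A = m l0 A ∨ m l B = m l0 B := by
    intro l hl
    have h1 := hone_l l hl
    by_cases e : l0 = l
    · exact Or.inl (by rw [e])
    rw [if_neg e, add_zero] at h1
    rcases hcoef l hl A hAone with a | a | a <;> rcases hcoef l hl B hBone with b | b | b <;>
      rcases hA0 with c | c <;> rcases hB0 with d | d <;>
        first
        | (left; omega)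
        | (right; omega)
        | (rw [a, b, c, d] at h1; norm_num at h1)
  set GA := Λ.filter fun l => m l A = m l0 A with hGA
  set GB := Λ.filter fun l => m l B = m l0 B with hGB
  have hbig : Λ.card + 1 ≤ GA.card + GB.card := by
    rw [← Finset.card_union_add_card_inter]
    have h1 : Λ ⊆ GA ∪ GB := fun l hl => by
      rcases hcover l hl with e | e
      · exact Finset.mem_union_left _ (Finset.mem_filter.2 ⟨hl, e⟩)
      · exact Finset.mem_union_right _ (Finset.mem_filter.2 ⟨hl, e⟩)
    have h2 : 0 < (GA ∩ GB).card := Finset.card_pos.2 ⟨l0,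
      Finset.mem_inter.2 ⟨Finset.mem_filter.2 ⟨hl0, rfl⟩, Finset.mem_filter.2 ⟨hl0, rfl⟩⟩⟩
    have := Finset.card_le_card h1
    omega
  wlog hwl : GB.card ≤ GA.card generalizing A B
  · exact this B A hAB.symm (by rw [hSl0, Finset.pair_comm])
      (fun l hl => by rw [add_comm]; exact hone_l l hl) hB0 hA0 hBone hAone
      (fun l hl => (hcover l hl).symm) hGB hGA (by rw [hGA, hGB] at hbig; omega) (by rw [hGA, hGB] at hwl; omega)
  -- the second constituent of each member of `GA`
  have hX : ∀ l ∈ GA, ∃ X, X ≠ A ∧ X ≠ one ∧ m l X ≠ 0 ∧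
      ‖X.1 t‖ = ‖1 + (m l0 A : ℂ) * A.1 t‖ := by
    intro l hl
    obtain ⟨hlΛ, hlA⟩ := Finset.mem_filter.1 hl
    have hAmem : A ∈ S l := Finset.mem_filter.2
      ⟨Finset.mem_erase.2 ⟨hAone, Finset.mem_univ _⟩, by rw [hlA]; omega⟩
    obtain ⟨X, hX⟩ := Finset.card_eq_one.1
      (show ((S l).erase A).card = 1 by rw [Finset.card_erase_of_mem hAmem, hcard l hlΛ])
    have hXmem : X ∈ (S l).erase A := by rw [hX]; simp
    obtain ⟨hXA, hXS⟩ := Finset.mem_erase.1 hXmem
    obtain ⟨hX1, hX0⟩ := Finset.mem_filter.1 hXS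
    refine ⟨X, hXA, (Finset.mem_erase.1 hX1).1, hX0, ?_⟩
    have hval : theta (G := G) l t = 1 + (m l0 A : ℂ) * A.1 t + (m l X : ℂ) * X.1 t := by
      rw [hmdec l, Finset.sum_apply, ← Finset.add_sum_erase _ _ (Finset.mem_univ one),
        ← Finset.sum_filter_of_ne (p := fun χ => m l χ ≠ 0) (fun χ _ hne hz => hne (by
          simp [Pi.smul_apply, hz]))]
      change _ + ∑ χ ∈ S l, _ = _
      rw [← Finset.add_sum_erase _ _ hAmem, hX, Finset.sum_singleton]
      simp only [Pi.smul_apply, smul_eq_mul, hm1 l hlΛ, hlA]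
      rw [show one.1 t = 1 from rfl]
      push_cast
      ring
    have ht0 : theta (G := G) l t = 0 := by
      have h1 := h.theta_apply l ⟨t, h.t_mem⟩
      rw [show (⟨t, h.t_mem⟩ : C)⁻¹ = ⟨t, h.t_mem⟩ from
        Subtype.ext (inv_eq_of_mul_eq_one_right h.t_sq), (hΛ l hlΛ).2] at h1
      rw [h1]; norm_num
    rw [ht0] at hval
    rw [show 1 + (m l0 A : ℂ) * A.1 t = -((m l X : ℂ) * X.1 t) from by linear_combination -hval,
      norm_neg, norm_mul]
    rcases habs l hlΛ X hXS with e | e <;> rw [e] <;> norm_num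
  haveI : Nonempty (Cfsg.IrrCharacter G) := ⟨one⟩
  choose! X hXA hX1 hX0 hXt using hX
  have hinj : Set.InjOn X (↑GA : Set (C →* ℂ)) := by
    intro l hl l' hl' he
    by_contra hne
    obtain ⟨hlΛ, hlA⟩ := Finset.mem_filter.1 (Finset.mem_coe.1 hl)
    obtain ⟨hlΛ', hlA'⟩ := Finset.mem_filter.1 (Finset.mem_coe.1 hl')
    have h1 := hsplit l hlΛ l' hlΛ'
    rw [if_neg hne, add_zero] at h1
    have hAmem : A ∈ S l := Finset.mem_filter.2
      ⟨Finset.mem_erase.2 ⟨hAone, Finset.mem_univ _⟩, by rw [hlA]; omega⟩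
    have hXmem : X l ∈ S l := Finset.mem_filter.2
      ⟨Finset.mem_erase.2 ⟨hX1 l hl, Finset.mem_univ _⟩, hX0 l hl⟩
    have hS : S l = {A, X l} := (Finset.eq_of_subset_of_card_le
      (Finset.insert_subset hAmem (Finset.singleton_subset_iff.2 hXmem))
      (by rw [hcard l hlΛ, Finset.card_pair (hXA l hl).symm])).symm
    rw [hS, Finset.sum_pair (hXA l hl).symm, hlA, hlA'] at h1
    have hsq : m l0 A * m l0 A = 1 := by rcases hA0 with e | e <;> rw [e] <;> norm_num
    rw [hsq] at h1
    have h2 : m l (X l) * m l' (X l) = 0 := by linarith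
    rcases mul_eq_zero.1 h2 with e | e
    · exact hX0 l hl e
    · rw [he] at e; exact hX0 l' hl' e
  have horth : ∑ χ : Cfsg.IrrCharacter G, ‖χ.1 t‖ ^ 2 = 4 * (q : ℝ) := by
    have h1 := Char.sum_irr_mul_conj t t
    rw [if_pos (IsConj.refl t), h.cent_t, h.cardN] at h1
    have h2 := congrArg Complex.re h1
    simp only [Complex.re_sum, Complex.mul_conj', ← Complex.ofReal_pow, Complex.ofReal_re,
      Complex.natCast_re] at h2
    rw [h2]; push_cast; ring
  set x := ‖1 + (m l0 A : ℂ) * A.1 t‖ with hx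
  have hxbd : (GA.card : ℝ) * x ^ 2 ≤ 4 * q := by
    rw [← horth]
    calc (GA.card : ℝ) * x ^ 2 = ∑ l ∈ GA, ‖(X l).1 t‖ ^ 2 := by
          rw [Finset.sum_congr rfl fun l hl => by rw [hXt l hl], Finset.sum_const, nsmul_eq_mul]
      _ = ∑ χ ∈ GA.image X, ‖χ.1 t‖ ^ 2 :=
          (Finset.sum_image (f := fun χ : Cfsg.IrrCharacter G => ‖χ.1 t‖ ^ 2) hinj).symm
      _ ≤ _ := Finset.sum_le_sum_of_subset_of_nonneg (Finset.subset_univ _) fun _ _ _ => sq_nonneg _
  have hx4 : x < 4 := by
    have hk : ((q : ℝ) + 1) ≤ 4 * GA.card := by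
      have : q + 1 ≤ 4 * GA.card := by omega
      exact_mod_cast this
    have hq0 : (0 : ℝ) < q := by exact_mod_cast h.odd_q.pos
    by_contra hc
    push Not at hc
    have : (16 : ℝ) ≤ x ^ 2 := by nlinarith
    nlinarith [mul_le_mul_of_nonneg_left this (Nat.cast_nonneg GA.card : (0:ℝ) ≤ GA.card)]
  have hBx : ‖B.1 t‖ = x := by
    have hmem : l0 ∈ GA := Finset.mem_filter.2 ⟨hl0, rfl⟩
    have h1 := hXt l0 hmem
    have : X l0 ∈ S l0 := Finset.mem_filter.2
      ⟨Finset.mem_erase.2 ⟨hX1 l0 hmem, Finset.mem_univ _⟩, hX0 l0 hmem⟩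
    rw [hSl0, Finset.mem_insert, Finset.mem_singleton] at this
    rcases this with e | e
    · exact absurd e (hXA l0 hmem)
    · rw [← e]; exact h1
  have hAx : ‖A.1 t‖ < 5 := by
    have h1 : ‖(m l0 A : ℂ) * A.1 t‖ ≤ x + 1 := by
      have := norm_sub_le (1 + (m l0 A : ℂ) * A.1 t) 1
      rw [add_sub_cancel_left, norm_one, ← hx] at this
      exact this
    rw [norm_mul] at h1
    have e : ‖(m l0 A : ℂ)‖ = 1 := by rcases hA0 with e | e <;> rw [e] <;> norm_num
    rw [e, one_mul] at h1
    linarith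
  have hS := h.sum_coeff_eq l0 (m l0) (hm l0) (hm1 l0 hl0)
  rw [← Finset.add_sum_erase _ _ (Finset.mem_univ one),
    ← Finset.sum_filter_of_ne (p := fun χ => m l0 χ ≠ 0) (fun χ _ hne hz => hne (by simp [hz]))] at hS
  change _ * (_ + ∑ χ ∈ S l0, _) = _ at hS
  rw [hSl0, Finset.sum_pair hAB, hm1 l0 hl0, show one.1 t = 1 from rfl, show one.1 1 = 1 from rfl] at hS
  set TA := (m l0 A : ℂ) * (A.1 t * A.1 t) / A.1 1 with hTA
  set TB := (m l0 B : ℂ) * (B.1 t * B.1 t) / B.1 1 with hTB
  have hbd : ∀ (D : Cfsg.IrrCharacter G) (z : ℤ), (z = 1 ∨ z = -1) → D ≠ one →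
      ‖(z : ℂ) * (D.1 t * D.1 t) / D.1 1‖ ≤ ‖D.1 t‖ ^ 2 / (2 * q - 3) := by
    intro D z hz hD
    have hd := h.degree_ge hq hD
    have hpos : (0 : ℝ) < 2 * q - 3 := by
      have : (27 : ℝ) ≤ q := by exact_mod_cast hq
      linarith
    rw [norm_div, norm_mul, norm_mul, Char.apply_one_eq_degree, Complex.norm_natCast,
      show ‖(z : ℂ)‖ = 1 by rcases hz with e | e <;> rw [e] <;> norm_num, one_mul, ← pow_two]
    exact div_le_div_of_nonneg_left (sq_nonneg _) hpos hd
  have hA2 := hbd A _ hA0 hAone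
  have hB2 := hbd B _ hB0 hBone
  rw [← hTA] at hA2
  rw [← hTB, hBx] at hB2
  have hn : (N.index : ℝ) + 2 * q = 4 * (q : ℝ) ^ 2 + 1 := by exact_mod_cast h.index_add
  have hnorm : (N.index : ℝ) * ‖TA + TB‖ = |8 * (q : ℝ) ^ 2 - N.index| := by
    have e : (N.index : ℂ) * (TA + TB) = ((8 * (q : ℝ) ^ 2 - N.index : ℝ) : ℂ) := by
      push_cast at hS ⊢
      linear_combination hS
    rw [← Complex.norm_natCast, ← norm_mul, e, Complex.norm_real, Real.norm_eq_abs, Complex.norm_natCast]
  have hle : ‖TA + TB‖ * (2 * q - 3) ≤ 41 := by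
    have hpos : (0 : ℝ) < 2 * q - 3 := by
      have : (27 : ℝ) ≤ q := by exact_mod_cast hq
      linarith
    have h1 := (norm_add_le TA TB).trans (add_le_add hA2 hB2)
    rw [← add_div, le_div_iff₀ hpos] at h1
    have h2 : ‖A.1 t‖ ^ 2 ≤ 25 := by nlinarith [norm_nonneg (A.1 t)]
    have h3 : x ^ 2 ≤ 16 := by nlinarith [norm_nonneg (1 + (m l0 A : ℂ) * A.1 t)]
    linarith
  have hq' : (27 : ℝ) ≤ q := by exact_mod_cast hq
  have habs2 : 8 * (q : ℝ) ^ 2 - N.index ≤ (N.index : ℝ) * ‖TA + TB‖ := hnorm ▸ le_abs_self _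
  have h51 : ‖TA + TB‖ * 51 ≤ 41 := by
    refine le_trans ?_ hle
    exact mul_le_mul_of_nonneg_left (by linarith) (norm_nonneg _)
  have hn0 : (0 : ℝ) ≤ N.index := Nat.cast_nonneg _
  nlinarith [mul_le_mul_of_nonneg_left h51 hn0]

end Config

end Cfsg.Agent.SmallDihedral
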