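import Cfsg.Agent.Lib.Coprime.Basic
import Cfsg.Agent.Lib.Involution.Dihedral
import Mathlib.GroupTheory.Sylow
import Mathlib.GroupTheory.Index

/-!
# Groups whose involution centraliser is generalised dihedral of order `4q` and a TI kernel:
counting involutions
-/

set_option autoImplicit false
set_option linter.unusedSectionVars false

namespace Cfsg.Agent.SmallDihedral

open Subgroup

variable {G : Type*} [Group G]

/-- The standing configuration. -/
structure Config (C N : Subgroup G) (t u : G) (q : ℕ) : Prop where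
  comm : ∀ a ∈ C, ∀ b ∈ C, a * b = b * a
  cardC : Nat.card C = 2 * q
  cardN : Nat.card N = 4 * q
  odd_q : Odd q
  t_mem : t ∈ C
  t_ord : orderOf t = 2
  le : C ≤ N
  u_mem : u ∈ N
  u_notMem : u ∉ C
  u_sq : u * u = 1
  u_inv : ∀ c ∈ C, u * c * u⁻¹ = c⁻¹
  cent_t : centralizer ({t} : Set G) = N
  ti : ∀ g : G, ∀ c ∈ C, c ≠ 1 → g * c * g⁻¹ ∈ C → g ∈ N
  inv_conj : ∀ s : G, orderOf s = 2 → IsConj t s
  prod : ∀ x y : G, orderOf x = 2 → orderOf y = 2 → x ≠ y →
    ∃ g : G, ∃ c ∈ C, c ≠ 1 ∧ g * c * g⁻¹ = x * y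

/-- Involutions `x` with `x⁻¹ g` again an involution. -/
abbrev InvPairs (g : G) : Type _ := {x : G // orderOf x = 2 ∧ orderOf (x⁻¹ * g) = 2}

variable [Finite G] {C N : Subgroup G} {t u : G} {q : ℕ}

namespace Config

variable (h : Config C N t u q)
include h

theorem t_ne_one : t ≠ 1 := fun e => by
  have := h.t_ord
  rw [e, orderOf_one] at this
  exact absurd this (by norm_num)

theorem t_sq : t * t = 1 := Involution.sq_of_orderOf_two h.t_ord

theorem relIndex_eq_two : C.relIndex N = 2 := by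
  have h1 : Nat.card C * C.relIndex N = Nat.card N := by
    rw [Subgroup.relIndex, ← Nat.card_congr (subgroupOfEquivOfLe h.le).toEquiv]
    exact (C.subgroupOf N).card_mul_index
  rw [h.cardC, h.cardN, show 4 * q = 2 * q * 2 by ring] at h1
  have := h.odd_q.pos
  exact Nat.eq_of_mul_eq_mul_left (by omega) h1

theorem u_mul_mem {x : G} (hx : x ∈ N) (hxC : x ∉ C) : u * x ∈ C := by
  have h1 := Subgroup.mul_mem_iff_of_index_two (H := C.subgroupOf N) h.relIndex_eq_two
    (a := ⟨u, h.u_mem⟩) (b := ⟨x, hx⟩)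
  simp only [mem_subgroupOf, Subgroup.coe_mul] at h1
  exact h1.2 (iff_of_false h.u_notMem hxC)

theorem sq_of_notMem {x : G} (hx : x ∈ N) (hxC : x ∉ C) : x * x = 1 := by
  have h1 := h.u_inv _ (h.u_mul_mem hx hxC)
  have hu : u⁻¹ = u := inv_eq_of_mul_eq_one_right h.u_sq
  rw [mul_inv_rev, hu, ← mul_assoc, h.u_sq, one_mul] at h1
  calc x * x = x * (x * u) * u := by rw [mul_assoc, mul_assoc, h.u_sq, mul_one]
    _ = x * (x⁻¹ * u) * u := by rw [h1]
    _ = 1 := by rw [mul_inv_cancel_left, h.u_sq]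

theorem conj_eq_inv {x : G} (hx : x ∈ N) (hxC : x ∉ C) {c : G} (hc : c ∈ C) :
    x * c * x⁻¹ = c⁻¹ := by
  have hd := h.u_mul_mem hx hxC
  have hu : u⁻¹ = u := inv_eq_of_mul_eq_one_right h.u_sq
  have hx' : x = u * (u * x) := by rw [← mul_assoc, h.u_sq, one_mul]
  rw [hx', mul_inv_rev, ← mul_assoc, mul_assoc u (u * x) c, h.comm _ hd _ hc]
  calc u * (c * (u * x)) * (u * x)⁻¹ * u⁻¹ = u * c * u⁻¹ := by group
    _ = c⁻¹ := h.u_inv c hc

theorem conj_mem {x : G} (hx : x ∈ N) {c : G} (hc : c ∈ C) : x * c * x⁻¹ ∈ C := by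
  by_cases hxC : x ∈ C
  · exact mul_mem (mul_mem hxC hc) (inv_mem hxC)
  · rw [h.conj_eq_inv hx hxC hc]; exact inv_mem hc

theorem eq_t {c : G} (hc : c ∈ C) (hcc : c * c = 1) (hc1 : c ≠ 1) : c = t := by
  by_contra hne
  have hd : zpowers c ⊓ zpowers t = ⊥ := by
    refine (Subgroup.eq_bot_iff_forall _).2 fun x hx => ?_
    obtain ⟨⟨i, hi⟩, ⟨j, hj⟩⟩ := hx
    simp only at hi hj
    rcases Int.even_or_odd i with ⟨a, rfl⟩ | ⟨a, rfl⟩
    · rw [← hi, zpow_add, ← (Commute.refl c).mul_zpow, hcc, one_zpow]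
    · rcases Int.even_or_odd j with ⟨b, rfl⟩ | ⟨b, rfl⟩
      · rw [← hj, zpow_add, ← (Commute.refl t).mul_zpow, h.t_sq, one_zpow]
      · exfalso
        rw [← hj, zpow_add, zpow_add, two_mul, two_mul, zpow_add, zpow_add,
          ← (Commute.refl c).mul_zpow, ← (Commute.refl t).mul_zpow, hcc, h.t_sq, one_zpow,
          one_zpow, zpow_one, zpow_one, one_mul, one_mul] at hi
        exact hne hi
  have hnorm : zpowers c ≤ normalizer ((zpowers t : Subgroup G) : Set G) := by
    rw [zpowers_le, mem_normalizer_iff]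
    intro x
    have hcomm : Commute c t := h.comm c hc t h.t_mem
    have key : ∀ j : ℤ, c * t ^ j * c⁻¹ = t ^ j := fun j => by
      rw [(hcomm.zpow_right j).eq, mul_inv_cancel_right]
    constructor
    · rintro ⟨j, rfl⟩; exact ⟨j, (key j).symm⟩
    · rintro ⟨j, hj⟩
      simp only at hj
      refine ⟨j, ?_⟩
      simp only
      have := congrArg (fun y => c⁻¹ * y * c) ((key j).trans hj)
      simpa [mul_assoc] using this
  have hcard := Coprime.card_sup_of_le_normalizer hnorm hd
  rw [Nat.card_zpowers, Nat.card_zpowers, h.t_ord, orderOf_eq_prime (p := 2) (by rwa [pow_two]) hc1] at hcard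
  have hdvd := Subgroup.card_dvd_of_le (sup_le (zpowers_le.2 hc) (zpowers_le.2 h.t_mem))
  rw [hcard, h.cardC] at hdvd
  obtain ⟨k, hk⟩ := h.odd_q
  omega

theorem orderOf_two_of_notMem {x : G} (hx : x ∈ N) (hxC : x ∉ C) : orderOf x = 2 :=
  orderOf_eq_prime (by rw [pow_two]; exact h.sq_of_notMem hx hxC) fun e => hxC (e ▸ C.one_mem)

/-- The involution pairs with product `c ∈ C ∖ 1` correspond to `N ∖ C`. -/
theorem card_invPairs_mem {c : G} (hc : c ∈ C) (hc1 : c ≠ 1) :
    Nat.card (InvPairs c) = 2 * q := by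
  have key : ∀ x : G, orderOf x = 2 ∧ orderOf (x⁻¹ * c) = 2 ↔ x ∈ N ∧ x ∉ C := by
    intro x
    constructor
    · rintro ⟨hx, hy⟩
      have hxi : x⁻¹ = x := Involution.inv_of_orderOf_two hx
      have hy2 := Involution.sq_of_orderOf_two hy
      rw [hxi] at hy2 hy
      have hconj : x * c * x⁻¹ = c⁻¹ := by
        rw [hxi]
        exact eq_inv_of_mul_eq_one_left (by rw [← hy2]; group)
      refine ⟨h.ti x c hc hc1 (hconj ▸ inv_mem hc), fun hxC => ?_⟩
      have hxt : x = t := h.eq_t hxC (Involution.sq_of_orderOf_two hx)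
        (fun e => by rw [e, orderOf_one] at hx; exact absurd hx (by norm_num))
      have hct : c = t := by
        refine h.eq_t hc ?_ hc1
        rw [h.comm x hxC c hc, mul_inv_cancel_right] at hconj
        exact eq_inv_iff_mul_eq_one.1 hconj
      rw [hxt, hct, h.t_sq, orderOf_one] at hy
      exact absurd hy (by norm_num)
    · rintro ⟨hx, hxC⟩
      refine ⟨h.orderOf_two_of_notMem hx hxC, h.orderOf_two_of_notMem (mul_mem (inv_mem hx) (h.le hc)) ?_⟩
      intro hmem
      exact hxC (inv_mem_iff.1 ((mul_mem_cancel_right hc).1 hmem))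
  rw [Nat.card_congr (Equiv.subtypeEquivRight key)]
  have h1 : Nat.card {x : G // x ∈ N ∧ x ∉ C} + Nat.card C = Nat.card N := by
    classical
    rw [← Nat.card_congr (Equiv.sumCompl (fun x : N => (x : G) ∈ C)), Nat.card_sum, add_comm]
    congr 1
    · exact Nat.card_congr
        { toFun := fun x => ⟨⟨x, h.le x.2⟩, x.2⟩
          invFun := fun x => ⟨x.1, x.2⟩
          left_inv := fun _ => rfl
          right_inv := fun _ => rfl }
    · exact Nat.card_congr
        { toFun := fun x => ⟨⟨x.1, x.2.1⟩, x.2.2⟩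
          invFun := fun x => ⟨x.1.1, x.1.2, x.2⟩
          left_inv := fun _ => rfl
          right_inv := fun _ => rfl }
  rw [h.cardC, h.cardN] at h1
  omega

/-- Conjugates of nontrivial elements of `C` are parametrised by `(G/N) × (C ∖ 1)`. -/
theorem param_injective :
    Function.Injective (fun w : (G ⧸ N) × {c : C // c ≠ 1} =>
      w.1.out * (w.2.1 : G) * w.1.out⁻¹) := by
  rintro ⟨x, ⟨c, hc⟩, hc1⟩ ⟨y, ⟨d, hd⟩, hd1⟩ he
  simp only at he
  have hm : y.out⁻¹ * x.out ∈ N := by
    refine h.ti _ c hc (fun e => hc1 (Subtype.ext e)) ?_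
    have : y.out⁻¹ * x.out * c * (y.out⁻¹ * x.out)⁻¹ = d := by
      calc y.out⁻¹ * x.out * c * (y.out⁻¹ * x.out)⁻¹
          = y.out⁻¹ * (x.out * c * x.out⁻¹) * y.out := by group
        _ = d := by rw [he]; group
    rw [this]; exact hd
  have hxy : x = y := by
    rw [← QuotientGroup.out_eq' x, ← QuotientGroup.out_eq' y]
    exact (QuotientGroup.eq.2 hm).symm
  subst hxy
  simp only [mul_left_inj, mul_right_inj] at he
  subst he
  rfl

theorem param_surjective {g a c : G} (hc : c ∈ C) (hc1 : c ≠ 1) (hg : a * c * a⁻¹ = g) :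
    ∃ w : (G ⧸ N) × {c : C // c ≠ 1}, w.1.out * (w.2.1 : G) * w.1.out⁻¹ = g := by
  obtain ⟨k, hk⟩ := QuotientGroup.mk_out_eq_mul N a
  refine ⟨((a : G ⧸ N), ⟨⟨(k : G)⁻¹ * c * ((k : G)⁻¹)⁻¹, h.conj_mem (inv_mem k.2) hc⟩,
    fun e => hc1 ?_⟩), ?_⟩
  · have := congrArg (fun y : C => (k : G) * (y : G) * (k : G)⁻¹) e
    simpa [mul_assoc] using this
  · show (a : G ⧸ N).out * ((k : G)⁻¹ * c * ((k : G)⁻¹)⁻¹) * (a : G ⧸ N).out⁻¹ = g
    rw [hk, ← hg]; group

theorem card_involutions : Nat.card {x : G // orderOf x = 2} = N.index := by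
  classical
  have h1 : Nat.card {x : G // IsConj t x} = (centralizer ({t} : Set G)).index := by
    have h2 : MulAction.orbit (ConjAct G) t = {x : G | IsConj t x} := by
      ext x; exact ConjAct.mem_orbit_conjAct.trans isConj_comm
    have h3 := MulAction.index_stabilizer (ConjAct G) t
    rw [h2, ← Nat.card_coe_set_eq] at h3
    have h4 : (MulAction.stabilizer (ConjAct G) t).comap
        (ConjAct.toConjAct : G ≃* ConjAct G).toMonoidHom = centralizer ({t} : Set G) := by
      ext x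
      simp only [mem_comap, MulEquiv.coe_toMonoidHom, MulAction.mem_stabilizer_iff,
        ConjAct.smul_def, ConjAct.ofConjAct_toConjAct, mem_centralizer_singleton_iff,
        mul_inv_eq_iff_eq_mul]
    rw [← h4, index_comap_of_surjective _ (MulEquiv.surjective _), h3]
    rfl
  rw [h.cent_t] at h1
  rw [← h1]
  refine Nat.card_congr (Equiv.subtypeEquivRight fun x => ⟨h.inv_conj x, fun hx => ?_⟩)
  obtain ⟨a, ha⟩ := isConj_iff.1 hx
  rw [← ha, ← MulAut.conj_apply]
  exact (MulEquiv.orderOf_eq _ t).trans h.t_ord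

theorem card_invPairs_one : Nat.card (InvPairs (1 : G)) = N.index := by
  rw [← h.card_involutions]
  exact Nat.card_congr (Equiv.subtypeEquivRight fun x => by simp)

theorem card_invPairs_conj (a : G) {g : G} :
    Nat.card (InvPairs (a * g * a⁻¹)) = Nat.card (InvPairs g) := by
  have ho : ∀ x, orderOf (a * x * a⁻¹) = orderOf x := fun x => by
    rw [← MulAut.conj_apply]; exact MulEquiv.orderOf_eq _ x
  refine (Nat.card_congr ((MulAut.conj a).toEquiv.subtypeEquiv fun x => ?_)).symm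
  show _ ↔ orderOf (a * x * a⁻¹) = 2 ∧ orderOf ((a * x * a⁻¹)⁻¹ * (a * g * a⁻¹)) = 2
  rw [ho, show (a * x * a⁻¹)⁻¹ * (a * g * a⁻¹) = a * (x⁻¹ * g) * a⁻¹ by group, ho]

/-- The number of involutions satisfies `n = 4q² - 2q + 1`. -/
theorem index_add : N.index + 2 * q = 4 * q ^ 2 + 1 := by
  classical
  haveI := Fintype.ofFinite G
  set f : (G ⧸ N) × {c : C // c ≠ 1} → G := fun w => w.1.out * (w.2.1 : G) * w.1.out⁻¹
  haveI : Fintype ((G ⧸ N) × {c : C // c ≠ 1}) := Fintype.ofFinite _
  set Ω : Finset G := Finset.univ.image f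
  have h1 : Nat.card (Σ g : G, InvPairs g) = N.index * N.index := by
    rw [← h.card_involutions, ← Nat.card_prod]
    exact Nat.card_congr
      { toFun := fun z => (⟨z.2.1, z.2.2.1⟩, ⟨z.2.1⁻¹ * z.1, z.2.2.2⟩)
        invFun := fun p => ⟨p.1.1 * p.2.1, ⟨p.1.1, p.1.2, by rw [inv_mul_cancel_left]; exact p.2.2⟩⟩
        left_inv := fun z => by
          obtain ⟨g, x, hx⟩ := z
          exact Sigma.subtype_ext (mul_inv_cancel_left _ _) rfl
        right_inv := fun p => Prod.ext (Subtype.ext rfl) (Subtype.ext (inv_mul_cancel_left _ _)) }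
  rw [Nat.card_sigma, ← Finset.sum_sdiff (Finset.subset_univ ({1} : Finset G)),
    Finset.sum_singleton, h.card_invPairs_one, add_comm] at h1
  have hΩ1 : Ω ⊆ Finset.univ \ {1} := by
    intro g hg
    obtain ⟨w, -, rfl⟩ := Finset.mem_image.1 hg
    simp only [Finset.mem_sdiff, Finset.mem_univ, Finset.mem_singleton, true_and, f]
    rw [mul_inv_eq_one, mul_eq_left]
    exact fun e => w.2.2 (Subtype.ext e)
  have h2 : ∑ g ∈ Finset.univ \ {(1 : G)}, Nat.card (InvPairs g) = Ω.card * (2 * q) := by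
    rw [← Finset.sum_subset hΩ1, Finset.sum_const_nat]
    · intro g hg
      obtain ⟨w, -, rfl⟩ := Finset.mem_image.1 hg
      simp only [f]
      rw [h.card_invPairs_conj w.1.out]
      exact h.card_invPairs_mem w.2.1.2 fun e => w.2.2 (Subtype.ext e)
    · intro g hg hgΩ
      rw [Nat.card_eq_zero]
      refine Or.inl ⟨fun x => hgΩ ?_⟩
      have hne : g ≠ 1 := by simpa using hg
      have hxy : (x : G) ≠ (x : G)⁻¹ * g := fun e => hne (by
        have := congrArg ((x : G) * ·) e
        simp only [mul_inv_cancel_left, Involution.sq_of_orderOf_two x.2.1] at this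
        exact this.symm)
      obtain ⟨a, c, hc, hc1, he⟩ := h.prod _ _ x.2.1 x.2.2 hxy
      rw [mul_inv_cancel_left] at he
      obtain ⟨w, hw⟩ := h.param_surjective hc hc1 he
      exact Finset.mem_image.2 ⟨w, Finset.mem_univ _, hw⟩
  have hΩ : Ω.card = N.index * (2 * q - 1) := by
    rw [Finset.card_image_of_injective _ h.param_injective, Finset.card_univ,
      ← Nat.card_eq_fintype_card, Nat.card_prod, ← Subgroup.index_eq_card]
    congr 1
    have h3 := Nat.card_congr (Equiv.sumCompl (fun c : C => c = 1))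
    rw [Nat.card_sum, h.cardC, Nat.card_unique (α := {c : C // c = 1})] at h3
    show Nat.card {c : C // ¬c = 1} = _
    omega
  rw [h2, hΩ] at h1
  have hpos : 0 < N.index := Nat.pos_of_ne_zero index_ne_zero_of_finite
  have h4 : N.index * (1 + (2 * q - 1) * (2 * q)) = N.index * N.index := by linarith [h1]
  have h5 := Nat.eq_of_mul_eq_mul_left hpos h4
  have h6 : (2 * q - 1) * (2 * q) + 2 * q = 4 * q ^ 2 := by
    have : 1 ≤ 2 * q := by have := h.odd_q.pos; omega
    calc (2 * q - 1) * (2 * q) + 2 * q = (2 * q - 1 + 1) * (2 * q) := by ring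
      _ = 4 * q ^ 2 := by rw [Nat.sub_add_cancel this]; ring
  omega

end Config

end Cfsg.Agent.SmallDihedral
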